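import Cfsg.Agent.Mrg.Omega.Assembly

/-!
# Tools for the table of S1731: large elementary abelian subgroups from additive groups
-/

set_option autoImplicit false

namespace Cfsg.Agent.Omega.Quasithin

open Cfsg

/-- An injective homomorphism from an additive group of exponent `p` and order `> p ^ k` refutes `PRankLE p k`. -/
theorem not_prankLE_of_hom {V G : Type*} [AddCommGroup V] [Group G] {p k : ℕ} (hV : ∀ v : V, p • v = 0)
    (f : Multiplicative V →* G) (hf : Function.Injective f) (hc : p ^ k < Nat.card V) : ¬ PRankLE p k G := by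
  intro h
  have h1 := h f.range ⟨⟨by
    rintro ⟨_, x, rfl⟩ ⟨_, y, rfl⟩
    apply Subtype.ext
    change f x * f y = f y * f x
    rw [← map_mul, ← map_mul, mul_comm]⟩⟩ (by
    rintro _ ⟨x, rfl⟩
    rw [← map_pow]
    have : x ^ p = 1 := hV x.toAdd
    rw [this, map_one])
  have h2 : Nat.card f.range = Nat.card V := by
    rw [Nat.card_congr (MonoidHom.ofInjective hf).symm.toEquiv]
    rfl
  omega

/-- The same modulo the centre: it is enough that no nontrivial element of the image is central. -/
theorem not_prankLE_of_center {V H : Type*} [AddCommGroup V] [Group H] {p k : ℕ} (hV : ∀ v : V, p • v = 0)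
    (f : Multiplicative V →* H)
    (hz : ∀ v : V, f (Multiplicative.ofAdd v) ∈ Subgroup.center H → v = 0) (hc : p ^ k < Nat.card V) :
    ¬ PRankLE p k (H ⧸ Subgroup.center H) := by
  refine not_prankLE_of_hom hV ((QuotientGroup.mk' (Subgroup.center H)).comp f) ?_ hc
  rw [injective_iff_map_eq_one]
  intro a ha
  have h1 : f a ∈ Subgroup.center H := (QuotientGroup.eq_one_iff (f a)).1 ha
  exact hz a.toAdd h1

end Cfsg.Agent.Omega.Quasithin
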