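import Cfsg.Agent.Mrg.Omega.Quasithin.Row.E27

/-!
# Table of S1731: criteria for 3-rank at least 3 by inequalities
-/

set_option autoImplicit false

namespace Cfsg.Agent.Omega.Quasithin.Row.E27Ne

open Subgroup Cfsg.Agent.Omega.Quasithin.Row.E27

variable {G : Type*} [Group G]

theorem pow_mod3 {x : G} (hx : x ^ 3 = 1) (n : ℕ) : x ^ n = x ^ (n % 3) := by
  conv_lhs => rw [← Nat.div_add_mod n 3, pow_add, pow_mul, hx, one_pow, one_mul]

theorem exists_pow {x : G} (hx : x ^ 3 = 1) {z : G} (hz : z ∈ closure ({x} : Set G)) : ∃ i < 3, z = x ^ i := by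
  rw [← zpowers_eq_closure] at hz
  obtain ⟨n, rfl⟩ := mem_zpowers_iff.1 hz
  refine ⟨(n % 3).toNat, by omega, ?_⟩
  have h1 : ((n % 3).toNat : ℤ) = n % 3 := Int.toNat_of_nonneg (by omega)
  rw [← zpow_natCast, h1]
  conv_lhs => rw [← Int.mul_ediv_add_emod n 3, zpow_add, zpow_mul]
  have h2 : x ^ (3 : ℤ) = 1 := by exact_mod_cast hx
  rw [h2, one_zpow, one_mul]

theorem exists_pow_mul {x y : G} (hx : x ^ 3 = 1) (hy : y ^ 3 = 1) (hxy : x * y = y * x) {z : G}
    (hz : z ∈ closure ({x, y} : Set G)) : ∃ i < 3, ∃ j < 3, z = x ^ i * y ^ j := by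
  have hc : Commute x y := hxy
  let K : Subgroup G :=
    { carrier := {z | ∃ i j : ℕ, z = x ^ i * y ^ j}
      one_mem' := ⟨0, 0, by simp⟩
      mul_mem' := by
        rintro _ _ ⟨i, j, rfl⟩ ⟨k, l, rfl⟩
        refine ⟨i + k, j + l, ?_⟩
        rw [pow_add, pow_add]
        calc x ^ i * y ^ j * (x ^ k * y ^ l) = x ^ i * (y ^ j * x ^ k) * y ^ l := by group
          _ = x ^ i * (x ^ k * y ^ j) * y ^ l := by rw [(hc.pow_pow k j).eq]
          _ = _ := by group
      inv_mem' := by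
        rintro _ ⟨i, j, rfl⟩
        refine ⟨2 * i, 2 * j, ?_⟩
        rw [mul_inv_rev, ← (Commute.inv_inv ((hc.pow_pow i j))).eq]
        have e : ∀ (g : G) (n : ℕ), g ^ 3 = 1 → (g ^ n)⁻¹ = g ^ (2 * n) := by
          intro g n hg
          apply inv_eq_of_mul_eq_one_left
          rw [← pow_add, show 2 * n + n = 3 * n by ring, pow_mul, hg, one_pow]
        rw [e x i hx, e y j hy] }
  have hle : closure ({x, y} : Set G) ≤ K := by
    rw [closure_le]
    rintro z (rfl | rfl)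
    · exact ⟨1, 0, by simp⟩
    · exact ⟨0, 1, by simp⟩
  obtain ⟨i, j, rfl⟩ := hle hz
  exact ⟨i % 3, Nat.mod_lt _ (by norm_num), j % 3, Nat.mod_lt _ (by norm_num), by
    rw [← pow_mod3 hx, ← pow_mod3 hy]⟩

/-- **Criterion by inequalities.** -/
theorem not_rank_of_ne {x y w : G} (hx : x ^ 3 = 1) (hy : y ^ 3 = 1) (hw : w ^ 3 = 1)
    (hxy : x * y = y * x) (hxw : x * w = w * x) (hyw : y * w = w * y)
    (hx1 : x ≠ 1) (hy1 : ∀ i < 3, y ≠ x ^ i) (hw1 : ∀ i < 3, ∀ j < 3, w ≠ x ^ i * y ^ j)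
    (H : Subgroup G) [Finite H] (hxH : x ∈ H) (hyH : y ∈ H) (hwH : w ∈ H) :
    ¬ Cfsg.PRankLE 3 2 H := by
  intro h
  let A₁ : Subgroup G := closure {x}
  let A₂ : Subgroup G := closure {x, y}
  let A₃ : Subgroup G := closure {x, y, w}
  obtain ⟨hc, h3⟩ := pow_closure (s := ({x, y, w} : Set G)) (by
    rintro p (rfl | rfl | rfl) q (rfl | rfl | rfl) <;> first | rfl | assumption | (symm; assumption)) (by
    rintro p (rfl | rfl | rfl) <;> assumption)
  have h12 : A₁ ≤ A₂ := closure_mono (by simp)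
  have h23 : A₂ ≤ A₃ := closure_mono (by
    rintro p (rfl | rfl) <;> simp)
  have hp : IsPGroup 3 A₃ := fun z => ⟨1, Subtype.ext (by simpa using h3 z.1 z.2)⟩
  have hlt0 : (⊥ : Subgroup G) < A₁ := by
    rw [bot_lt_iff_ne_bot]
    intro h0
    apply hx1
    rw [← mem_bot, ← h0]
    exact subset_closure rfl
  have hlt1 : A₁ < A₂ := by
    refine lt_of_le_of_ne h12 fun he => ?_
    have hy2 : y ∈ A₁ := by rw [he]; exact subset_closure (by simp)
    obtain ⟨i, hi, h4⟩ := exists_pow hx hy2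
    exact hy1 i hi h4
  have hlt2 : A₂ < A₃ := by
    refine lt_of_le_of_ne h23 fun he => ?_
    have hw2 : w ∈ A₂ := by rw [he]; exact subset_closure (by simp)
    obtain ⟨i, hi, j, hj, h4⟩ := exists_pow_mul hx hy hxy hw2
    exact hw1 i hi j hj h4
  have hAH : A₃ ≤ H := by
    rw [closure_le]
    rintro p (rfl | rfl | rfl) <;> assumption
  have f3 : Finite A₃ := Finite.of_injective _ (Subgroup.inclusion_injective hAH)
  have f2 : Finite A₂ := Finite.of_injective _ (Subgroup.inclusion_injective h23)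
  have f1 : Finite A₁ := Finite.of_injective _ (Subgroup.inclusion_injective h12)
  have e0 := three_mul_card_le (hp.to_le (h12.trans h23)) hlt0
  have e1 := three_mul_card_le (hp.to_le h23) hlt1
  have e2 := three_mul_card_le hp hlt2
  rw [card_bot] at e0
  have hcomm : IsMulCommutative (A₃.subgroupOf H) :=
    ⟨⟨fun a b => Subtype.ext (Subtype.ext (hc _ a.2 _ b.2))⟩⟩
  have h5 := h (A₃.subgroupOf H) hcomm (fun a ha => Subtype.ext (h3 _ ha))
  rw [Nat.card_congr (Subgroup.subgroupOfEquivOfLe hAH).toEquiv] at h5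
  norm_num at h5
  omega

/-- The criterion for the whole group. -/
theorem not_rank_of_ne_top [Finite G] {x y w : G} (hx : x ^ 3 = 1) (hy : y ^ 3 = 1) (hw : w ^ 3 = 1)
    (hxy : x * y = y * x) (hxw : x * w = w * x) (hyw : y * w = w * y)
    (hx1 : x ≠ 1) (hy1 : ∀ i < 3, y ≠ x ^ i) (hw1 : ∀ i < 3, ∀ j < 3, w ≠ x ^ i * y ^ j) :
    ¬ Cfsg.PRankLE 3 2 G := fun h =>
  not_rank_of_ne hx hy hw hxy hxw hyw hx1 hy1 hw1 ⊤ (mem_top _) (mem_top _) (mem_top _)
    (prank_of_injective (⊤ : Subgroup G).subtype (Subgroup.subtype_injective _) h)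

/-- The criterion for elements of `H` which map to suitable elements under an injective homomorphism. -/
theorem not_rank_of_map {H : Type*} [Group H] [Finite G] (f : G →* H) (hf : Function.Injective f) {x y w : H}
    (hx : x ^ 3 = 1) (hy : y ^ 3 = 1) (hw : w ^ 3 = 1)
    (hxy : x * y = y * x) (hxw : x * w = w * x) (hyw : y * w = w * y)
    (hx1 : x ≠ 1) (hy1 : ∀ i < 3, y ≠ x ^ i) (hw1 : ∀ i < 3, ∀ j < 3, w ≠ x ^ i * y ^ j)
    (hxH : x ∈ f.range) (hyH : y ∈ f.range) (hwH : w ∈ f.range) : ¬ Cfsg.PRankLE 3 2 G := by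
  have hfin : Finite f.range := Finite.of_surjective _ f.rangeRestrict_surjective
  intro h
  refine not_rank_of_ne hx hy hw hxy hxw hyw hx1 hy1 hw1 f.range hxH hyH hwH ?_
  exact prank_of_injective (MonoidHom.ofInjective hf).symm.toMonoidHom (MonoidHom.ofInjective hf).symm.injective h

end Cfsg.Agent.Omega.Quasithin.Row.E27Ne
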