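import Cfsg.Agent.Mrg.Omega.Assembly
import Cfsg.Agent.LieClassical.OrthForms
import Cfsg.Agent.LieClassical.OrthFinite
import Cfsg.Agent.AutOrth.Gen

/-!
# Orthogonal rows of the table of S1731

The Siegel transformations `E(u, w)`, `w` in a three-dimensional space orthogonal to the singular vector `u`,
form an elementary abelian subgroup of order `q ^ 3` of `PΩ(Q)`.
-/

set_option autoImplicit false

namespace Cfsg.Agent.Omega.Quasithin.Row.OmegaRank

open QuadraticMap Cfsg.Agent.LieClassical.OrthCore Cfsg.Agent.LieClassical.OrthTrans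
  Cfsg.Agent.LieClassical.OrthFinite Cfsg.Agent.AutOrth.SemiSim

universe u

section general

variable {F V : Type*} [Field F] [AddCommGroup V] [Module F V] {Q : QuadraticForm F V}

/-- the homomorphism `a ↦ E(u, w a)` into `E Q`. -/
noncomputable def hom (Q : QuadraticForm F V) (e : V) (he : Q e = 0) (w : (Fin 3 → F) →ₗ[F] V)
    (hw : ∀ a, polar Q e (w a) = 0) : Multiplicative (Fin 3 → F) →* ↥(E Q) where
  toFun a := ⟨siegel Q e (w (Multiplicative.toAdd a)) he (hw _), siegel_mem_E he (hw _)⟩
  map_one' := by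
    apply Subtype.ext
    apply LinearEquiv.ext
    intro v
    simp [siegel_apply]
  map_mul' a b := by
    apply Subtype.ext
    apply LinearEquiv.ext
    intro v
    have h0 : polar Q e (w (Multiplicative.toAdd a) + w (Multiplicative.toAdd b)) = 0 := by
      rw [← map_add]
      exact hw _
    have h := siegel_mul he (hw (Multiplicative.toAdd a)) (hw (Multiplicative.toAdd b)) h0
    rw [Subgroup.coe_mul]
    show _ = (siegel Q e (w (Multiplicative.toAdd a)) he (hw _) *
      siegel Q e (w (Multiplicative.toAdd b)) he (hw _)) v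
    rw [h]
    simp [siegel_apply, toAdd_mul, map_add]

end general

/-- `PΩ(Q)` has `p`-rank at least 3. -/
theorem not_prank {F V : Type*} [Field F] [Finite F] [AddCommGroup V] [Module F V]
    {Q : QuadraticForm F V} (hG : Good Q) (p : ℕ) [Fact p.Prime] [CharP F p] (e : V) (he : Q e = 0)
    (he0 : e ≠ 0) (w : (Fin 3 → F) →ₗ[F] V) (hw : ∀ a, polar Q e (w a) = 0)
    (hinj : ∀ a (c : F), w a = c • e → a = 0) :
    ¬ PRankLE p 2 (↥(E Q) ⧸ Subgroup.center ↥(E Q)) := by
  classical
  intro h
  set φ := (QuotientGroup.mk' (Subgroup.center ↥(E Q))).comp (hom Q e he w hw) with hφ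
  have hi : Function.Injective φ := by
    rw [injective_iff_map_eq_one]
    intro a ha
    have h1 : hom Q e he w hw a ∈ Subgroup.center ↥(E Q) := by
      rw [hφ, MonoidHom.comp_apply, QuotientGroup.mk'_apply, QuotientGroup.eq_one_iff] at ha
      exact ha
    obtain ⟨c, hc⟩ := Cfsg.Agent.AutOrth.Gen.scalar_of_center hG h1
    have h2 : ∀ v, v + polar Q e v • w (Multiplicative.toAdd a)
        - polar Q (w (Multiplicative.toAdd a)) v • e
        - (Q (w (Multiplicative.toAdd a)) * polar Q e v) • e = c • v := fun v => by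
      rw [← hc v]
      exact (siegel_apply he (hw _) v).symm
    have hc1 : c = 1 := by
      have h3 := h2 e
      rw [polar_self_of_sing he, zero_smul, mul_zero, zero_smul, sub_zero, add_zero,
        polar_comm Q (w _) e, hw, zero_smul, sub_zero] at h3
      by_contra hne
      apply he0
      have h4 : (1 - c) • e = 0 := by rw [sub_smul, one_smul, ← h3, sub_self]
      rcases smul_eq_zero.1 h4 with h5 | h5
      · exact absurd (sub_eq_zero.1 h5).symm hne
      · exact h5
    obtain ⟨y, hy⟩ := hG.nondeg.exists_polar_eq he0 1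
    have h3 := h2 y
    rw [hc1, hy, one_smul, one_smul, mul_one] at h3
    have h4 : w (Multiplicative.toAdd a) =
        (polar Q (w (Multiplicative.toAdd a)) y + Q (w (Multiplicative.toAdd a))) • e := by
      rw [add_smul]
      have h5 : y + w (Multiplicative.toAdd a) - polar Q (w (Multiplicative.toAdd a)) y • e -
        Q (w (Multiplicative.toAdd a)) • e - y = 0 := by rw [h3, sub_self]
      have h6 : w (Multiplicative.toAdd a) - (polar Q (w (Multiplicative.toAdd a)) y • e +
        Q (w (Multiplicative.toAdd a)) • e) = 0 := by rw [← h5]; abel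
      exact sub_eq_zero.1 h6
    exact hinj _ _ h4
  have h1 := h φ.range ⟨⟨by
    rintro ⟨_, a, rfl⟩ ⟨_, b, rfl⟩
    apply Subtype.ext
    change φ a * φ b = φ b * φ a
    rw [← map_mul, ← map_mul, mul_comm]⟩⟩ (by
    rintro _ ⟨a, rfl⟩
    rw [← map_pow]
    have : a ^ p = 1 := by
      apply Multiplicative.toAdd.injective
      funext i
      rw [toAdd_pow, toAdd_one, Pi.smul_apply, Pi.zero_apply, nsmul_eq_mul, CharP.cast_eq_zero,
        zero_mul]
    rw [this, map_one])
  rw [← Nat.card_congr (MonoidHom.ofInjective hi).toEquiv] at h1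
  have h2 : Nat.card (Multiplicative (Fin 3 → F)) = Nat.card F ^ 3 := by
    rw [Nat.card_congr Multiplicative.toAdd, Nat.card_fun, Nat.card_eq_fintype_card (α := Fin 3),
      Fintype.card_fin]
  rw [h2] at h1
  have h3 : p ≤ Nat.card F := by
    have : Fintype F := Fintype.ofFinite F
    obtain ⟨n, hn, hcard⟩ := FiniteField.card F p
    rw [Nat.card_eq_fintype_card, hcard]
    exact Nat.le_self_pow n.2.ne' p
  have h4 : p ^ 3 ≤ Nat.card F ^ 3 := Nat.pow_le_pow_left h3 3
  have h5 : p ^ 2 < p ^ 3 := Nat.pow_lt_pow_right (Fact.out : p.Prime).one_lt (by norm_num)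
  omega

/-- The same for `POmega` on coordinates. -/
theorem not_prank_coord {F : Type*} [Field F] [Finite F] {ι : Type} [Fintype ι] [DecidableEq ι]
    {Q : QuadraticForm F (ι → F)} (hG : Good Q) (p : ℕ) [Fact p.Prime] [CharP F p] (i₀ : ι)
    (j : Fin 3 → ι) (hj : Function.Injective j) (hj0 : ∀ k, j k ≠ i₀)
    (h0 : Q (Pi.single i₀ 1) = 0) (h1 : ∀ k, polar Q (Pi.single i₀ 1) (Pi.single (j k) 1) = 0) :
    ¬ PRankLE p 2 (Cfsg.POmega F ⇑Q) := by
  intro h
  set w : (Fin 3 → F) →ₗ[F] (ι → F) :=
    ∑ k : Fin 3, (LinearMap.proj k : (Fin 3 → F) →ₗ[F] F).smulRight (Pi.single (j k) (1 : F)) with hw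
  have hwa : ∀ a, w a = ∑ k, a k • (Pi.single (j k) (1 : F) : ι → F) := fun a => by
    simp [hw]
  refine not_prank hG p (Pi.single i₀ 1) h0 (by
      intro h
      have := congrFun h i₀
      simp at this) w (fun a => ?_) (fun a c hac => ?_)
    (prankLE_congr (quotientCenterCongr
      ((omegaEquiv Q).trans (MulEquiv.subgroupCongr hG.commutator_eq_E))) h)
  · rw [hwa, Fin.sum_univ_three, polar_add_right, polar_add_right, polar_smul_right,
      polar_smul_right, polar_smul_right, h1, h1, h1]
    simp
  · funext k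
    have h2 := congrFun hac (j k)
    rw [hwa, Finset.sum_apply] at h2
    simp only [Pi.smul_apply, Pi.single_apply, smul_eq_mul, mul_ite, mul_one, mul_zero, hj.eq_iff,
      hj0 k, if_false] at h2
    simpa using h2

end Cfsg.Agent.Omega.Quasithin.Row.OmegaRank
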